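import Mathlib
import Groth.Prelude.Def_DTen6
import Groth.Agent.Lib.Helper5.TBC.ActCx

/-!
# Chain level: the unit of extension of scalars is monoidal (helper5)

`(η_P ⊗ η_{P'}) ≫ resTenCx (ext P) (ext P') = η_{P ⊗ P'} ≫ res (extTenCxIso P P').hom`
-/

set_option autoImplicit false
set_option backward.isDefEq.respectTransparency false
universe u
open CategoryTheory CategoryTheory.Limits MonoidalCategory

namespace Groth.Agent.Lib.Helper5.RBC
open DTen HomologicalComplex Groth.Agent.Lib.Helper5.TBC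

variable {R R' : Type u} [CommRing R] [CommRing R'] (φ : R →+* R')

/-- module level -/
lemma unit_tensor_mod (X Y : ModuleCat.{u} R) :
    ((ModuleCat.extendRestrictScalarsAdj.{u, u, u} φ).unit.app X ⊗ₘ
        (ModuleCat.extendRestrictScalarsAdj.{u, u, u} φ).unit.app Y) ≫
      resTen₀app φ ((extM φ).obj X) ((extM φ).obj Y) =
    (ModuleCat.extendRestrictScalarsAdj.{u, u, u} φ).unit.app (X ⊗ Y) ≫
      (resM φ).map (Functor.OplaxMonoidal.δ (extM φ) X Y) := by
  apply ModuleCat.hom_ext
  apply TensorProduct.ext'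
  intro x y
  rfl

/-- the unit with clean source and target -/
noncomputable def ηc (P : DRing.Cx R) : P ⟶ (resCx φ).obj ((extCx φ).obj P) := (unitCx φ).app P

lemma ηc_f (P : DRing.Cx R) (i : ℤ) :
    (ηc φ P).f i = (ModuleCat.extendRestrictScalarsAdj.{u, u, u} φ).unit.app (P.X i) :=
  rfl

/-- chain level -/
theorem unitCx_tensor (P P' : DRing.Cx R) :
    (ηc φ P ⊗ₘ ηc φ P') ≫ resTenCx φ ((extCx φ).obj P) ((extCx φ).obj P') =
      ηc φ (P ⊗ P') ≫ (resCx φ).map (extTenCxIso φ P P').hom := by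
  refine HomologicalComplex.hom_ext _ _ (fun n => ?_)
  refine HomologicalComplex.mapBifunctor.hom_ext (fun p q h => ?_)
  change p + q = n at h
  have e1 : ιTensorObj P P' p q n h ≫
      ((ηc φ P ⊗ₘ ηc φ P') ≫ resTenCx φ ((extCx φ).obj P) ((extCx φ).obj P')).f n =
      ((ηc φ P).f p ⊗ₘ (ηc φ P').f q) ≫
        resTen₀app φ (((extCx φ).obj P).X p) (((extCx φ).obj P').X q) ≫
          (resM φ).map (ιTensorObj ((extCx φ).obj P) ((extCx φ).obj P') p q n h) := by
    have h1 := ι_whiskerRight_f (ηc φ P) P' p q n h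
    have h2 := ι_whiskerLeft_f ((resCx φ).obj ((extCx φ).obj P)) (ηc φ P') p q n h
    have h3 := ι_resTenCx φ ((extCx φ).obj P) ((extCx φ).obj P') p q n h
    rw [HomologicalComplex.comp_f, MonoidalCategory.tensorHom_def, HomologicalComplex.comp_f,
      Category.assoc, reassoc_of% h1, reassoc_of% h2, MonoidalCategory.tensorHom_def,
      Category.assoc]
    congr 2
  have e2 : ιTensorObj P P' p q n h ≫
      (ηc φ (P ⊗ P') ≫ (resCx φ).map (extTenCxIso φ P P').hom).f n =
      (ModuleCat.extendRestrictScalarsAdj.{u, u, u} φ).unit.app (P.X p ⊗ P'.X q) ≫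
        (resM φ).map (Functor.OplaxMonoidal.δ (extM φ) (P.X p) (P'.X q) ≫
          ιTensorObj ((extCx φ).obj P) ((extCx φ).obj P') p q n h) := by
    rw [HomologicalComplex.comp_f, ηc_f]
    have h1 := (ModuleCat.extendRestrictScalarsAdj.{u, u, u} φ).unit.naturality
      (ιTensorObj P P' p q n h)
    have h2 := map_ι_extTenCxIso_hom φ P P' p q n h
    erw [reassoc_of% h1]
    rw [← h2, Functor.map_comp]
    rfl
  refine (e1.trans ?_).trans e2.symm
  rw [Functor.map_comp, ← Category.assoc, ← Category.assoc]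
  congr 1
  exact unit_tensor_mod φ (P.X p) (P'.X q)

end Groth.Agent.Lib.Helper5.RBC
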