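import Mathlib
import Groth.Prelude.Def_DTen6
import Groth.Agent.Lib.Helper5.RBC.CxC1
import Groth.Agent.Lib.Helper5.ExactPair.Assoc

/-!
# Chain level: the projection isomorphism `R'[0]|_R ⊗ P ≅ (ext P)|_R` is associative (helper5)
-/

set_option autoImplicit false
set_option backward.isDefEq.respectTransparency false
universe u
open CategoryTheory CategoryTheory.Limits MonoidalCategory

namespace Groth.Agent.Lib.Helper5.RBC
open DTen HomologicalComplex Groth.Agent.Lib.Helper5.TBC Groth.Agent.Lib.Helper5.ExactPair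

variable {R R' : Type u} [CommRing R] [CommRing R'] (φ : R →+* R')

lemma lactMod_naturality {X Y : ModuleCat.{u} R'} (f : X ⟶ Y) :
    ((uR φ).X 0 ◁ (resM φ).map f) ≫ lactMod φ Y = lactMod φ X ≫ (resM φ).map f := by
  apply ModuleCat.hom_ext
  apply TensorProduct.ext'
  intro a x
  show (((uIso R').hom.hom a) • (f.hom (show X from x)) : Y) =
    f.hom ((((uIso R').hom.hom a)) • (show X from x))
  exact (map_smul f.hom _ _).symm

lemma lactMod_resTen₀ (Z W : ModuleCat.{u} R') :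
    (lactMod φ Z ▷ (resM φ).obj W) ≫ resTen₀app φ Z W =
      (α_ ((uR φ).X 0) ((resM φ).obj Z) ((resM φ).obj W)).hom ≫
        ((uR φ).X 0 ◁ resTen₀app φ Z W) ≫ lactMod φ (Z ⊗ W) := by
  apply ModuleCat.hom_ext
  apply TensorProduct.ext_threefold
  intro a z w
  rfl

/-- module level -/
lemma pfL_tensor_mod (X Y : ModuleCat.{u} R) :
    ((((uR φ).X 0 ◁ (ModuleCat.extendRestrictScalarsAdj.{u, u, u} φ).unit.app X) ≫
        lactMod φ ((DTen.extM φ).obj X)) ▷ Y) ≫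
      ((resM φ).obj ((DTen.extM φ).obj X) ◁
        (ModuleCat.extendRestrictScalarsAdj.{u, u, u} φ).unit.app Y) ≫
      resTen₀app φ ((DTen.extM φ).obj X) ((DTen.extM φ).obj Y) =
    (α_ ((uR φ).X 0) X Y).hom ≫
      ((uR φ).X 0 ◁ (ModuleCat.extendRestrictScalarsAdj.{u, u, u} φ).unit.app (X ⊗ Y)) ≫
      lactMod φ ((DTen.extM φ).obj (X ⊗ Y)) ≫
      (resM φ).map (Functor.OplaxMonoidal.δ (DTen.extM φ) X Y) := by
  have h1 := lactMod_resTen₀ φ ((DTen.extM φ).obj X) ((DTen.extM φ).obj Y)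
  have h2 := unit_tensor_mod φ X Y
  have h3 := lactMod_naturality φ (Functor.OplaxMonoidal.δ (DTen.extM φ) X Y)
  rw [← h3, ← MonoidalCategory.whiskerLeft_comp_assoc, ← h2]
  have h4 : (lactMod φ ((DTen.extM φ).obj X) ▷ Y) ≫
      ((resM φ).obj ((DTen.extM φ).obj X) ◁
        (ModuleCat.extendRestrictScalarsAdj.{u, u, u} φ).unit.app Y) =
      (((uR φ).X 0 ⊗ (resM φ).obj ((DTen.extM φ).obj X)) ◁
        (ModuleCat.extendRestrictScalarsAdj.{u, u, u} φ).unit.app Y) ≫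
      (lactMod φ ((DTen.extM φ).obj X) ▷ (resM φ).obj ((DTen.extM φ).obj Y)) :=
    (MonoidalCategory.whisker_exchange _ _).symm
  rw [MonoidalCategory.comp_whiskerRight, Category.assoc, reassoc_of% h4, h1]
  simp only [MonoidalCategory.tensorHom_def, MonoidalCategory.whiskerLeft_comp, Category.assoc]
  have h5 : (((uR φ).X 0 ◁ (ModuleCat.extendRestrictScalarsAdj.{u, u, u} φ).unit.app X) ▷ Y) ≫
      (α_ ((uR φ).X 0) ((resM φ).obj ((DTen.extM φ).obj X)) Y).hom =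
      (α_ ((uR φ).X 0) X Y).hom ≫
        ((uR φ).X 0 ◁ ((ModuleCat.extendRestrictScalarsAdj.{u, u, u} φ).unit.app X ▷ Y)) :=
    MonoidalCategory.associator_naturality_middle _ _ _
  have h6 : (((uR φ).X 0 ⊗ (resM φ).obj ((DTen.extM φ).obj X)) ◁
        (ModuleCat.extendRestrictScalarsAdj.{u, u, u} φ).unit.app Y) ≫
      (α_ ((uR φ).X 0) ((resM φ).obj ((DTen.extM φ).obj X))
        ((resM φ).obj ((DTen.extM φ).obj Y))).hom =
      (α_ ((uR φ).X 0) ((resM φ).obj ((DTen.extM φ).obj X)) Y).hom ≫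
        ((uR φ).X 0 ◁ ((resM φ).obj ((DTen.extM φ).obj X) ◁
          (ModuleCat.extendRestrictScalarsAdj.{u, u, u} φ).unit.app Y)) :=
    MonoidalCategory.associator_naturality_right _ _ _
  rw [reassoc_of% h6, reassoc_of% h5]
  rfl

/-- **chain level**: the projection isomorphism `pfL` is compatible with tensor products -/
theorem pfL_tensor (P P' : DRing.Cx R) :
    (pfL φ P ▷ P') ≫ ((resCx φ).obj ((extCx φ).obj P) ◁ ηc φ P') ≫
        resTenCx φ ((extCx φ).obj P) ((extCx φ).obj P') =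
      (α_ (uR φ) P P').hom ≫ pfL φ (P ⊗ P') ≫ (resCx φ).map (extTenCxIso φ P P').hom := by
  refine HomologicalComplex.hom_ext _ _ (fun n => ?_)
  refine hom_ext₃ _ _ _ _ _ (fun i₁ i₂ i₃ i₁₂ h₁₂ h' => ?_)
  by_cases h1 : i₁ = 0
  · subst h1
    obtain rfl : i₂ = i₁₂ := by omega
    have e1 := ι_associator_hom (uR φ) P P' 0 i₂ i₃ i₂ n n (zero_add i₂) h' (by omega)
    have e2 := ι_whiskerRight_f (pfL φ P) P' i₂ i₃ n h'
    have e3 := ι_whiskerLeft_f ((resCx φ).obj ((extCx φ).obj P)) (ηc φ P') i₂ i₃ n h'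
    have e4 := ι_resTenCx φ ((extCx φ).obj P) ((extCx φ).obj P') i₂ i₃ n h'
    have e5 := ι_pfL φ P i₂
    have e6 := ι_pfL φ (P ⊗ P') n
    have e7 := map_ι_extTenCxIso_hom φ P P' i₂ i₃ n h'
    have e8 := pfL_tensor_mod φ (P.X i₂) (P'.X i₃)
    have e9 := (ModuleCat.extendRestrictScalarsAdj.{u, u, u} φ).unit.naturality
      (ιTensorObj P P' i₂ i₃ n h')
    have e10 := lactMod_naturality φ ((DTen.extM φ).map (ιTensorObj P P' i₂ i₃ n h'))
    have s1 : (ιTensorObj (uR φ) P 0 i₂ i₂ (zero_add i₂) ▷ P'.X i₃) ≫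
        ιTensorObj (uR φ ⊗ P) P' i₂ i₃ n h' ≫
        ((pfL φ P ▷ P') ≫ ((resCx φ).obj ((extCx φ).obj P) ◁ ηc φ P') ≫
          resTenCx φ ((extCx φ).obj P) ((extCx φ).obj P')).f n =
        ((((uR φ).X 0 ◁ (ModuleCat.extendRestrictScalarsAdj.{u, u, u} φ).unit.app (P.X i₂)) ≫
          lactMod φ ((DTen.extM φ).obj (P.X i₂))) ▷ P'.X i₃) ≫
        ((resM φ).obj ((DTen.extM φ).obj (P.X i₂)) ◁
          (ModuleCat.extendRestrictScalarsAdj.{u, u, u} φ).unit.app (P'.X i₃)) ≫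
        resTen₀app φ ((DTen.extM φ).obj (P.X i₂)) ((DTen.extM φ).obj (P'.X i₃)) ≫
        (resM φ).map (ιTensorObj ((extCx φ).obj P) ((extCx φ).obj P') i₂ i₃ n h') := by
      rw [HomologicalComplex.comp_f, HomologicalComplex.comp_f, reassoc_of% e2,
        reassoc_of% e3, e4, ← MonoidalCategory.comp_whiskerRight_assoc, e5]
      rfl
    have s2 : (ιTensorObj (uR φ) P 0 i₂ i₂ (zero_add i₂) ▷ P'.X i₃) ≫
        ιTensorObj (uR φ ⊗ P) P' i₂ i₃ n h' ≫
        ((α_ (uR φ) P P').hom ≫ pfL φ (P ⊗ P') ≫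
          (resCx φ).map (extTenCxIso φ P P').hom).f n =
        (α_ ((uR φ).X 0) (P.X i₂) (P'.X i₃)).hom ≫
        ((uR φ).X 0 ◁ (ModuleCat.extendRestrictScalarsAdj.{u, u, u} φ).unit.app
          (P.X i₂ ⊗ P'.X i₃)) ≫
        lactMod φ ((DTen.extM φ).obj (P.X i₂ ⊗ P'.X i₃)) ≫
        (resM φ).map (Functor.OplaxMonoidal.δ (DTen.extM φ) (P.X i₂) (P'.X i₃)) ≫
        (resM φ).map (ιTensorObj ((extCx φ).obj P) ((extCx φ).obj P') i₂ i₃ n h') := by
      rw [HomologicalComplex.comp_f, HomologicalComplex.comp_f, reassoc_of% e1,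
        reassoc_of% e6]
      congr 1
      have e9' : ιTensorObj P P' i₂ i₃ n h' ≫
          (ModuleCat.extendRestrictScalarsAdj.{u, u, u} φ).unit.app ((P ⊗ P').X n) =
          (ModuleCat.extendRestrictScalarsAdj.{u, u, u} φ).unit.app (P.X i₂ ⊗ P'.X i₃) ≫
            (resM φ).map ((DTen.extM φ).map (ιTensorObj P P' i₂ i₃ n h')) := e9
      have e7' : (resM φ).map ((DTen.extM φ).map (ιTensorObj P P' i₂ i₃ n h')) ≫
          ((resCx φ).map (extTenCxIso φ P P').hom).f n =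
          (resM φ).map (Functor.OplaxMonoidal.δ (DTen.extM φ) (P.X i₂) (P'.X i₃)) ≫
            (resM φ).map (ιTensorObj ((extCx φ).obj P) ((extCx φ).obj P') i₂ i₃ n h') := by
        rw [← Functor.map_comp, ← e7, Functor.map_comp]
        rfl
      rw [← MonoidalCategory.whiskerLeft_comp_assoc, e9', MonoidalCategory.whiskerLeft_comp_assoc]
      erw [reassoc_of% e10]
      rw [e7']
    rw [s1, s2, ← reassoc_of% e8]
  · exact (isZero_tensor_left (isZero_tensor_left (isZero_uR φ i₁ h1) _) _).eq_of_src _ _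

end Groth.Agent.Lib.Helper5.RBC
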