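import Mathlib
import Groth.Prelude.Def_DTen6
import Groth.Agent.Lib.Helper5.RBC.CxC1
import Groth.Agent.Lib.Helper5.DTenLib.Base
import Groth.Agent.Lib.Helper5.Gen.ExtKProj
import Groth.Agent.Lib.Helper5.HomCx.KProjTensor

/-!
# Derived base change is monoidal, and the comparison `rhomBC` is an isomorphism (helper5)
-/

set_option autoImplicit false
set_option linter.unusedSectionVars false
set_option linter.unusedVariables false
set_option linter.style.haveILetI false
universe u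
open CategoryTheory CategoryTheory.Limits MonoidalCategory
attribute [local instance] HasDerivedCategory.standard

namespace Groth.Agent.Lib.Helper5.RBC

open DTen DerivedCategory Groth.Agent.Lib.Helper5.DTenLib Groth.Agent.Lib.Helper5.KProj
  Groth.Agent.Lib.Helper5.KFlat Groth.Agent.Lib.Helper5.HomCx Helper5.Gen

section One

variable {A : Type u} [CommRing A] [HasLTen A]

theorem LT_comp {a a' a'' b b' b'' : Dual.D A} (f : a ⟶ a') (f' : a' ⟶ a'')
    (g : b ⟶ b') (g' : b' ⟶ b'') :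
    (LTen₂ A).map (Prod.mkHom f g) ≫ (LTen₂ A).map (Prod.mkHom f' g') =
      (LTen₂ A).map (Prod.mkHom (f ≫ f') (g ≫ g')) := by
  rw [← Functor.map_comp]
  rfl

theorem LT_id (a b : Dual.D A) : (LTen₂ A).map (Prod.mkHom (𝟙 a) (𝟙 b)) = 𝟙 _ := by
  rw [← (LTen₂ A).map_id]
  rfl

instance isIso_LT_map' {a a' b b' : Dual.D A} (f : a ⟶ a') (g : b ⟶ b') [IsIso f] [IsIso g] :
    IsIso ((LTen₂ A).map (Prod.mkHom f g)) := by
  have : IsIso (Prod.mkHom f g) := by
    rw [isIso_prod_iff]
    exact ⟨inferInstanceAs (IsIso f), inferInstanceAs (IsIso g)⟩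
  infer_instance

theorem ε_nat' {X Y X' Y' : DRing.Cx A} (f : X ⟶ Y) (f' : X' ⟶ Y') :
    (LTen₂ A).map (Prod.mkHom (Q.map f) (Q.map f')) ≫ (ε A).app (Y, Y') =
      (ε A).app (X, X') ≫ Q.map (f ⊗ₘ f') := by
  have h := (ε A).naturality (X := (X, X')) (Y := (Y, Y')) (Prod.mkHom f f')
  rw [tensor₂_map_eq] at h
  exact h

end One

variable {R R' : Type u} [CommRing R] [CommRing R'] (φ : R →+* R')
  [HasLTen R] [HasLTen R'] [HasLBase φ] [HasResTen φ] [ResLegIso φ]

theorem resPF_naturality {E₁ E₂ F₁ F₂ : Dual.D R'} (a : E₁ ⟶ E₂) (b : F₁ ⟶ F₂) :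
    (LTen₂ R).map (Prod.mkHom ((DRing.restrictD φ).map a) ((DRing.restrictD φ).map b)) ≫
        (resPF φ).app (E₂, F₂) =
      (resPF φ).app (E₁, F₁) ≫ (DRing.restrictD φ).map ((LTen₂ R').map (Prod.mkHom a b)) :=
  (resPF φ).naturality (X := (E₁, F₁)) (Y := (E₂, F₂)) (Prod.mkHom a b)

/-- the lax comparison `W ⊗ K ⟶ res (L W ⊗' L K)` -/
noncomputable def muT (W K : Dual.D R) :
    (LTen₂ R).obj (W, K) ⟶
      (DRing.restrictD φ).obj ((LTen₂ R').obj ((LBase φ).obj W, (LBase φ).obj K)) :=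
  (LTen₂ R).map (Prod.mkHom ((baseAdj φ).unit.app W) ((baseAdj φ).unit.app K)) ≫
    (resPF φ).app ((LBase φ).obj W, (LBase φ).obj K)

/-- the monoidal comparison of derived base change `L (W ⊗ K) ⟶ L W ⊗' L K` -/
noncomputable def mu (W K : Dual.D R) :
    (LBase φ).obj ((LTen₂ R).obj (W, K)) ⟶
      (LTen₂ R').obj ((LBase φ).obj W, (LBase φ).obj K) :=
  ((baseAdj φ).homEquiv _ _).symm (muT φ W K)

theorem unit_mu (W K : Dual.D R) :
    (baseAdj φ).unit.app ((LTen₂ R).obj (W, K)) ≫ (DRing.restrictD φ).map (mu φ W K) =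
      muT φ W K := by
  have h : (baseAdj φ).homEquiv _ _ (mu φ W K) = muT φ W K := Equiv.apply_symm_apply _ _
  rw [Adjunction.homEquiv_unit] at h
  exact h

theorem unit_mu_comp (W K : Dual.D R) {Z : Dual.D R'}
    (g : (LTen₂ R').obj ((LBase φ).obj W, (LBase φ).obj K) ⟶ Z) :
    (baseAdj φ).unit.app ((LTen₂ R).obj (W, K)) ≫ (DRing.restrictD φ).map (mu φ W K ≫ g) =
      muT φ W K ≫ (DRing.restrictD φ).map g := by
  rw [Functor.map_comp, ← Category.assoc, unit_mu]

theorem muT_naturality {W₁ W₂ K₁ K₂ : Dual.D R} (a : W₁ ⟶ W₂) (b : K₁ ⟶ K₂) :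
    (LTen₂ R).map (Prod.mkHom a b) ≫ muT φ W₂ K₂ =
      muT φ W₁ K₁ ≫ (DRing.restrictD φ).map
        ((LTen₂ R').map (Prod.mkHom ((LBase φ).map a) ((LBase φ).map b))) := by
  dsimp only [muT]
  rw [← Category.assoc, LT_comp, Category.assoc, ← resPF_naturality, ← Category.assoc, LT_comp]
  congr 3
  · exact (baseAdj φ).unit.naturality a
  · exact (baseAdj φ).unit.naturality b

theorem mu_naturality {W₁ W₂ K₁ K₂ : Dual.D R} (a : W₁ ⟶ W₂) (b : K₁ ⟶ K₂) :
    (LBase φ).map ((LTen₂ R).map (Prod.mkHom a b)) ≫ mu φ W₂ K₂ =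
      mu φ W₁ K₁ ≫ (LTen₂ R').map (Prod.mkHom ((LBase φ).map a) ((LBase φ).map b)) := by
  apply ((baseAdj φ).homEquiv _ _).injective
  rw [Adjunction.homEquiv_unit, Adjunction.homEquiv_unit, Functor.map_comp, Functor.map_comp,
    ← Category.assoc, ← Category.assoc, unit_mu]
  have h := (baseAdj φ).unit.naturality ((LTen₂ R).map (Prod.mkHom a b))
  dsimp only [Functor.id_map, Functor.comp_map] at h
  rw [← h, Category.assoc, unit_mu, muT_naturality]

/-- the key computation on K-projective representatives -/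
theorem muT_Q (P P' : DRing.Cx R) :
    muT φ (Q.obj P) (Q.obj P') ≫ (DRing.restrictD φ).map
        ((LTen₂ R').map (Prod.mkHom ((baseCmp φ).app P) ((baseCmp φ).app P')) ≫
          (ε R').app ((extCx φ).obj P, (extCx φ).obj P')) ≫
        (resFactors φ).hom.app ((extCx φ).obj P ⊗ (extCx φ).obj P') =
      (ε R).app (P, P') ≫ Q.map ((ηc φ P ⊗ₘ ηc φ P') ≫
        resTenCx φ ((extCx φ).obj P) ((extCx φ).obj P')) := by
  have h1 := resPF_naturality φ ((baseCmp φ).app P) ((baseCmp φ).app P')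
  have h2 := resPF_fac φ ((extCx φ).obj P, (extCx φ).obj P')
  have h3 := baseCmp_fac φ P
  have h4 := baseCmp_fac φ P'
  have h5 := ε_nat' (ηc φ P) (ηc φ P')
  dsimp only [muT]
  rw [Functor.map_comp, Category.assoc, Category.assoc, ← reassoc_of% h1, ← Category.assoc,
    LT_comp]
  have h2' : (resPF φ).app (Q.obj ((extCx φ).obj P), Q.obj ((extCx φ).obj P')) ≫
      (DRing.restrictD φ).map ((ε R').app ((extCx φ).obj P, (extCx φ).obj P')) ≫
        (resFactors φ).hom.app ((extCx φ).obj P ⊗ (extCx φ).obj P') =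
      (LTen₂ R).map (Prod.mkHom ((resFactors φ).hom.app ((extCx φ).obj P))
          ((resFactors φ).hom.app ((extCx φ).obj P'))) ≫
        (ε R).app ((resCx φ).obj ((extCx φ).obj P), (resCx φ).obj ((extCx φ).obj P')) ≫
          Q.map (resTenCx φ ((extCx φ).obj P) ((extCx φ).obj P')) := h2
  rw [h2', ← Category.assoc, LT_comp, Functor.map_comp, ← reassoc_of% h5]
  congr 3
  · rw [h3]
    dsimp only [baseγ]
    rw [Category.assoc, Iso.inv_hom_id_app]
    exact Category.comp_id _
  · rw [h4]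
    dsimp only [baseγ]
    rw [Category.assoc, Iso.inv_hom_id_app]
    exact Category.comp_id _

/-- `mu` on images of complexes -/
theorem mu_Q (P P' : DRing.Cx R) :
    mu φ (Q.obj P) (Q.obj P') ≫
        ((LTen₂ R').map (Prod.mkHom ((baseCmp φ).app P) ((baseCmp φ).app P')) ≫
          (ε R').app ((extCx φ).obj P, (extCx φ).obj P')) =
      (LBase φ).map ((ε R).app (P, P')) ≫ (baseCmp φ).app (P ⊗ P') ≫
        Q.map (extTenCxIso φ P P').hom := by
  apply ((baseAdj φ).homEquiv _ _).injective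
  rw [Adjunction.homEquiv_unit, Adjunction.homEquiv_unit]
  rw [← cancel_mono ((resFactors φ).hom.app ((extCx φ).obj P ⊗ (extCx φ).obj P'))]
  have hL : ((baseAdj φ).unit.app ((LTen₂ R).obj (Q.obj P, Q.obj P')) ≫
      (DRing.restrictD φ).map (mu φ (Q.obj P) (Q.obj P') ≫
        ((LTen₂ R').map (Prod.mkHom ((baseCmp φ).app P) ((baseCmp φ).app P')) ≫
          (ε R').app ((extCx φ).obj P, (extCx φ).obj P')))) ≫
        (resFactors φ).hom.app ((extCx φ).obj P ⊗ (extCx φ).obj P') =
      (ε R).app (P, P') ≫ Q.map ((ηc φ P ⊗ₘ ηc φ P') ≫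
        resTenCx φ ((extCx φ).obj P) ((extCx φ).obj P')) := by
    rw [Functor.map_comp, ← Category.assoc ((baseAdj φ).unit.app _), unit_mu, Category.assoc]
    exact muT_Q φ P P'
  have hR : ((baseAdj φ).unit.app ((LTen₂ R).obj (Q.obj P, Q.obj P')) ≫
      (DRing.restrictD φ).map ((LBase φ).map ((ε R).app (P, P')) ≫ (baseCmp φ).app (P ⊗ P') ≫
        Q.map (extTenCxIso φ P P').hom)) ≫
        (resFactors φ).hom.app ((extCx φ).obj P ⊗ (extCx φ).obj P') =
      (ε R).app (P, P') ≫ Q.map (ηc φ (P ⊗ P') ≫ (resCx φ).map (extTenCxIso φ P P').hom) := by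
    have h1 : (ε R).app (P, P') ≫ (baseAdj φ).unit.app (Q.obj (P ⊗ P')) =
        (baseAdj φ).unit.app ((LTen₂ R).obj (Q.obj P, Q.obj P')) ≫
          (DRing.restrictD φ).map ((LBase φ).map ((ε R).app (P, P'))) :=
      (baseAdj φ).unit.naturality ((ε R).app (P, P'))
    have h2 := baseCmp_fac φ (P ⊗ P')
    have h3 : (DRing.restrictD φ).map (Q.map (extTenCxIso φ P P').hom) ≫
        (resFactors φ).hom.app ((extCx φ).obj P ⊗ (extCx φ).obj P') =
        (resFactors φ).hom.app ((extCx φ).obj (P ⊗ P')) ≫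
          Q.map ((resCx φ).map (extTenCxIso φ P P').hom) :=
      (resFactors φ).hom.naturality (extTenCxIso φ P P').hom
    have h4 : (baseγ φ).app (P ⊗ P') ≫ (resFactors φ).hom.app ((extCx φ).obj (P ⊗ P')) =
        Q.map (ηc φ (P ⊗ P')) := by
      dsimp only [baseγ]
      rw [Category.assoc, Iso.inv_hom_id_app]
      exact Category.comp_id _
    rw [Functor.map_comp, Functor.map_comp]
    simp only [Category.assoc]
    rw [← reassoc_of% h1, reassoc_of% h2, h3, reassoc_of% h4, ← Functor.map_comp]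
  rw [hL, hR, unitCx_tensor]

theorem isIso_mu_Q (P P' : DRing.Cx R) [P.IsKProjective] [P'.IsKProjective] :
    IsIso (mu φ (Q.obj P) (Q.obj P')) := by
  have h := mu_Q φ P P'
  haveI := isIso_baseCmp_of_isKProjective φ P
  haveI := isIso_baseCmp_of_isKProjective φ P'
  haveI : (P ⊗ P').IsKProjective := isKProjective_tensor P P'
  haveI := isIso_baseCmp_of_isKProjective φ (P ⊗ P')
  haveI := isIso_ε_of_isKProjective R P P'
  haveI := isIso_ε_of_isKProjective R' ((extCx φ).obj P) ((extCx φ).obj P')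
  have hR : IsIso ((LBase φ).map ((ε R).app (P, P')) ≫ (baseCmp φ).app (P ⊗ P') ≫
      Q.map (extTenCxIso φ P P').hom) := inferInstance
  rw [← h] at hR
  exact IsIso.of_isIso_comp_right _
    ((LTen₂ R').map (Prod.mkHom ((baseCmp φ).app P) ((baseCmp φ).app P')) ≫
      (ε R').app ((extCx φ).obj P, (extCx φ).obj P'))

/-- **derived base change is monoidal** -/
theorem isIso_mu (W K : Dual.D R) : IsIso (mu φ W K) := by
  let w := Q.objPreimage W
  let k := Q.objPreimage K
  let eW : Q.obj (res w) ≅ W := asIso (Q.map (resMap w)) ≪≫ Q.objObjPreimageIso W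
  let eK : Q.obj (res k) ≅ K := asIso (Q.map (resMap k)) ≪≫ Q.objObjPreimageIso K
  have h := mu_naturality φ eW.hom eK.hom
  haveI := isIso_mu_Q φ (res w) (res k)
  have h2 : IsIso (mu φ (Q.obj (res w)) (Q.obj (res k)) ≫
      (LTen₂ R').map (Prod.mkHom ((LBase φ).map eW.hom) ((LBase φ).map eK.hom))) :=
    inferInstance
  rw [← h] at h2
  exact IsIso.of_isIso_comp_left ((LBase φ).map ((LTen₂ R).map (Prod.mkHom eW.hom eK.hom))) _

section RHom

variable [HasRHom R] [HasRHom R']

/-- the adjunct of `f ≫ rhomBC` -/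
theorem rhomBC_formula (K : Dual.D R) (M : Dual.D R') {W : Dual.D R}
    (f : W ⟶ (DRing.restrictD φ).obj ((RHomR R' ((LBase φ).obj K)).obj M)) :
    (rhomHomEquiv W K ((DRing.restrictD φ).obj M)).symm (f ≫ rhomBC φ K M) =
      muT φ W K ≫ (DRing.restrictD φ).map
        ((LTen₂ R').map (Prod.mkHom (((baseAdj φ).homEquiv W _).symm f) (𝟙 ((LBase φ).obj K))) ≫
          ev ((LBase φ).obj K) M) := by
  set f' := ((baseAdj φ).homEquiv W _).symm f with hf'
  have hf : f = (baseAdj φ).unit.app W ≫ (DRing.restrictD φ).map f' := by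
    have h : (baseAdj φ).homEquiv W _ f' = f := Equiv.apply_symm_apply _ _
    rw [Adjunction.homEquiv_unit] at h
    exact h.symm
  have h1 : (rhomHomEquiv W K ((DRing.restrictD φ).obj M)).symm (f ≫ rhomBC φ K M) =
      (LTen₂ R).map (Prod.mkHom f (𝟙 K)) ≫ rhomBCCore φ K M := by
    dsimp only [rhomHomEquiv]
    rw [Adjunction.homEquiv_counit, Functor.map_comp, Category.assoc]
    have := rhomBC_fac φ K M
    dsimp only [DTen.ev] at this
    rw [this]
    rfl
  rw [h1]
  have h2 := resPF_naturality φ f' (𝟙 ((LBase φ).obj K))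
  rw [CategoryTheory.Functor.map_id] at h2
  have h3 : (LTen₂ R).map (Prod.mkHom f (𝟙 K)) ≫
      (LTen₂ R).map (Prod.mkHom (𝟙 _) ((baseAdj φ).unit.app K)) =
      (LTen₂ R).map (Prod.mkHom ((baseAdj φ).unit.app W) ((baseAdj φ).unit.app K)) ≫
        (LTen₂ R).map (Prod.mkHom ((DRing.restrictD φ).map f') (𝟙 _)) := by
    rw [LT_comp, LT_comp, Category.comp_id, Category.id_comp, Category.comp_id, ← hf]
  dsimp only [rhomBCCore, muT]
  rw [reassoc_of% h3, reassoc_of% h2, Category.assoc, ← Functor.map_comp]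

/-- **the comparison `rhomBC` is an isomorphism** -/
theorem isIso_rhomBC (K : Dual.D R) (M : Dual.D R') : IsIso (rhomBC φ K M) := by
  refine isIso_of_yoneda_map_bijective _ (fun W => ?_)
  haveI := isIso_mu φ W K
  let E : (W ⟶ (DRing.restrictD φ).obj ((RHomR R' ((LBase φ).obj K)).obj M)) ≃
      (W ⟶ (RHomR R K).obj ((DRing.restrictD φ).obj M)) :=
    (((baseAdj φ).homEquiv W _).symm.trans
      ((rhomHomEquiv ((LBase φ).obj W) ((LBase φ).obj K) M).symm.trans
        ((Iso.homCongr (asIso (mu φ W K)).symm (Iso.refl M)).trans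
          (((baseAdj φ).homEquiv _ _).trans (rhomHomEquiv W K ((DRing.restrictD φ).obj M))))))
  have hE : (fun f : W ⟶ (DRing.restrictD φ).obj ((RHomR R' ((LBase φ).obj K)).obj M) =>
      f ≫ rhomBC φ K M) = E := by
    funext f
    apply (rhomHomEquiv W K ((DRing.restrictD φ).obj M)).symm.injective
    rw [rhomBC_formula]
    dsimp only [E, Equiv.trans_apply]
    rw [Equiv.symm_apply_apply, Adjunction.homEquiv_unit, Iso.homCongr_apply]
    dsimp only [Iso.symm_inv, asIso_hom, Iso.refl_hom, rhomHomEquiv]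
    have hc : ((rhomAdj R' ((LBase φ).obj K)).homEquiv ((LBase φ).obj W) M).symm
        (((baseAdj φ).homEquiv W ((RHomR R' ((LBase φ).obj K)).obj M)).symm f) =
        (LTen₂ R').map (Prod.mkHom (((baseAdj φ).homEquiv W
          ((RHomR R' ((LBase φ).obj K)).obj M)).symm f) (𝟙 ((LBase φ).obj K))) ≫
          DTen.ev ((LBase φ).obj K) M :=
      (rhomAdj R' ((LBase φ).obj K)).homEquiv_counit _ _ _
    rw [Category.comp_id, unit_mu_comp, hc]
  rw [hE]
  exact E.bijective

end RHom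

end Groth.Agent.Lib.Helper5.RBC
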