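import Mathlib
import Groth.Prelude.Def_DTen6
import Groth.Agent.Lib.Helper5.RBC.Mu
import Groth.Agent.Lib.Helper5.RBC.CxC2
import Groth.Agent.Lib.Helper5.TBC.ActD
import Groth.Agent.Lib.Helper5.TBC.ActAssoc
import Groth.Agent.Lib.Helper5.TBC.EvalLink
import Groth.Agent.Lib.Helper5.DTenLib.EvalTen

/-!
# The link between `bcRHom` and `evalTen` (helper5)

`σ_X : R'|_R ⊗^L X ≅ (X ⊗^L_R R')|_R`, its compatibility with the projection formula map and the
monoidal structure of derived base change, and the resulting identity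
`σ ≫ res (bcRHom) ≫ rhomBC = evalTen ≫ RHom(K, σ)`.
-/

set_option autoImplicit false
set_option linter.unusedSectionVars false
set_option linter.unusedVariables false
set_option linter.style.haveILetI false
universe u
open CategoryTheory CategoryTheory.Limits MonoidalCategory
attribute [local instance] HasDerivedCategory.standard

namespace Groth.Agent.Lib.Helper5.RBC

open DTen DerivedCategory Groth.Agent.Lib.Helper5.DTenLib Groth.Agent.Lib.Helper5.KProj
  Groth.Agent.Lib.Helper5.KFlat Groth.Agent.Lib.Helper5.HomCx Helper5.Gen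
  Groth.Agent.Lib.Helper5.TBC

variable {R R' : Type u} [CommRing R] [CommRing R'] (φ : R →+* R')
  [HasLTen R] [HasLTen R'] [HasLBase φ] [HasResTen φ] [ResLegIso φ]

/-- `σ_X : R'|_R ⊗^L X ⟶ (L X)|_R` -/
noncomputable def sig (X : Dual.D R) :
    (LTen₂ R).obj (aD φ, X) ⟶ (DRing.restrictD φ).obj ((LBase φ).obj X) :=
  (sigmaNat φ).app X ≫ (DRing.restrictD φ).map ((DTenLib.uIso φ).inv.app X)

instance isIso_sig (X : Dual.D R) : IsIso (sig φ X) := by
  dsimp only [sig]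
  infer_instance

theorem sig_naturality {X X' : Dual.D R} (g : X ⟶ X') :
    (LTen₂ R).map (Prod.mkHom (𝟙 (aD φ)) g) ≫ sig φ X' =
      sig φ X ≫ (DRing.restrictD φ).map ((LBase φ).map g) := by
  have h1 : (LTen₂ R).map (Prod.mkHom (𝟙 (aD φ)) g) ≫ (sigmaNat φ).app X' =
      (sigmaNat φ).app X ≫ (DRing.restrictD φ).map ((DRing.LBaseChange φ).map g) :=
    (sigmaNat φ).naturality g
  have h2 : (DRing.LBaseChange φ).map g ≫ (DTenLib.uIso φ).inv.app X' =
      (DTenLib.uIso φ).inv.app X ≫ (LBase φ).map g := (DTenLib.uIso φ).inv.naturality g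
  dsimp only [sig]
  rw [reassoc_of% h1, Category.assoc, ← Functor.map_comp, ← Functor.map_comp, h2]

theorem sig_Q (P : DRing.Cx R) :
    sig φ (Q.obj P) ≫ (DRing.restrictD φ).map ((baseCmp φ).app P) ≫
        (resFactors φ).hom.app ((extCx φ).obj P) =
      (LTen₂ R).map (Prod.mkHom ((resFactors φ).hom.app (𝟙_ (DRing.Cx R'))) (𝟙 (Q.obj P))) ≫
        (ε R).app (uR φ, P) ≫ Q.map (pfL φ P) := by
  have h := sigmaNat_app_Q (R := R) φ P
  rw [baseCmp_eq]
  dsimp only [sig]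
  rw [Category.assoc, ← Functor.map_comp_assoc, Iso.inv_hom_id_app_assoc]
  exact h

theorem projPF_naturality {E₁ E₂ : Dual.D R'} {K₁ K₂ : Dual.D R} (a : E₁ ⟶ E₂) (b : K₁ ⟶ K₂) :
    (LTen₂ R).map (Prod.mkHom ((DRing.restrictD φ).map a) b) ≫ projPF φ E₂ K₂ =
      projPF φ E₁ K₁ ≫ (DRing.restrictD φ).map
        ((LTen₂ R').map (Prod.mkHom a ((LBase φ).map b))) := by
  dsimp only [projPF]
  rw [← Category.assoc, LT_comp, Category.assoc, ← resPF_naturality, ← Category.assoc, LT_comp]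
  congr 3
  · rw [Category.id_comp, Category.comp_id]
  · exact (baseAdj φ).unit.naturality b

theorem projPF_naturality_left {E₁ E₂ : Dual.D R'} (K : Dual.D R) (a : E₁ ⟶ E₂) :
    (LTen₂ R).map (Prod.mkHom ((DRing.restrictD φ).map a) (𝟙 K)) ≫ projPF φ E₂ K =
      projPF φ E₁ K ≫ (DRing.restrictD φ).map
        ((LTen₂ R').map (Prod.mkHom a (𝟙 ((LBase φ).obj K)))) := by
  have h := projPF_naturality φ a (𝟙 K)
  rw [CategoryTheory.Functor.map_id] at h
  exact h

theorem projPF_Q (Y : DRing.Cx R') (P' : DRing.Cx R) :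
    projPF φ (Q.obj Y) (Q.obj P') ≫ (DRing.restrictD φ).map
        ((LTen₂ R').map (Prod.mkHom (𝟙 (Q.obj Y)) ((baseCmp φ).app P')) ≫
          (ε R').app (Y, (extCx φ).obj P')) ≫
        (resFactors φ).hom.app (Y ⊗ (extCx φ).obj P') =
      (LTen₂ R).map (Prod.mkHom ((resFactors φ).hom.app Y) (𝟙 (Q.obj P'))) ≫
        (ε R).app ((resCx φ).obj Y, P') ≫
        Q.map (((resCx φ).obj Y ◁ ηc φ P') ≫ resTenCx φ Y ((extCx φ).obj P')) := by
  have h1 := resPF_naturality φ (𝟙 (Q.obj Y)) ((baseCmp φ).app P')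
  have h2 := resPF_fac φ (Y, (extCx φ).obj P')
  have h4 := baseCmp_fac φ P'
  have h5 := ε_nat' (𝟙 ((resCx φ).obj Y)) (ηc φ P')
  have h2' : (resPF φ).app (Q.obj Y, Q.obj ((extCx φ).obj P')) ≫
      (DRing.restrictD φ).map ((ε R').app (Y, (extCx φ).obj P')) ≫
        (resFactors φ).hom.app (Y ⊗ (extCx φ).obj P') =
      (LTen₂ R).map (Prod.mkHom ((resFactors φ).hom.app Y)
          ((resFactors φ).hom.app ((extCx φ).obj P'))) ≫
        (ε R).app ((resCx φ).obj Y, (resCx φ).obj ((extCx φ).obj P')) ≫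
          Q.map (resTenCx φ Y ((extCx φ).obj P')) := h2
  dsimp only [projPF]
  rw [MonoidalCategory.id_tensorHom] at h5
  rw [Functor.map_comp, Category.assoc, Category.assoc, ← reassoc_of% h1, ← Category.assoc,
    LT_comp]
  rw [h2', ← Category.assoc, LT_comp, Functor.map_comp, ← reassoc_of% h5, LT_map_comp_assoc]
  congr 3
  · rw [CategoryTheory.Functor.map_id, CategoryTheory.Functor.map_id, Category.id_comp,
      Category.id_comp]
    exact (Category.comp_id _).symm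
  · rw [h4]
    dsimp only [baseγ]
    rw [Category.assoc, Iso.inv_hom_id_app]
    exact (Category.comp_id _).trans (Category.id_comp _).symm

section Coh

variable [HasLTen₃ R] [IsSymMonoidal R]

/-- the common tail -/
noncomputable def tailT (P P' : DRing.Cx R) :
    (DRing.restrictD φ).obj
        ((LTen₂ R').obj ((LBase φ).obj (Q.obj P), (LBase φ).obj (Q.obj P'))) ⟶
      Q.obj ((resCx φ).obj ((extCx φ).obj P ⊗ (extCx φ).obj P')) :=
  (DRing.restrictD φ).map
      ((LTen₂ R').map (Prod.mkHom ((baseCmp φ).app P) ((baseCmp φ).app P')) ≫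
        (ε R').app ((extCx φ).obj P, (extCx φ).obj P')) ≫
    (resFactors φ).hom.app ((extCx φ).obj P ⊗ (extCx φ).obj P')

instance isIso_tailT (P P' : DRing.Cx R) [P.IsKProjective] [P'.IsKProjective] :
    IsIso (tailT φ P P') := by
  haveI := isIso_baseCmp_of_isKProjective φ P
  haveI := isIso_baseCmp_of_isKProjective φ P'
  haveI := isIso_ε_of_isKProjective R' ((extCx φ).obj P) ((extCx φ).obj P')
  dsimp only [tailT]
  infer_instance

theorem sig_proj_left (P P' : DRing.Cx R) :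
    (LTen₂ R).map (Prod.mkHom (sig φ (Q.obj P)) (𝟙 (Q.obj P'))) ≫
        projPF φ ((LBase φ).obj (Q.obj P)) (Q.obj P') ≫ tailT φ P P' =
      (LTen₂ R).map (Prod.mkHom ((LTen₂ R).map (Prod.mkHom
          ((resFactors φ).hom.app (𝟙_ (DRing.Cx R'))) (𝟙 (Q.obj P)))) (𝟙 (Q.obj P'))) ≫
        (LTen₂ R).map (Prod.mkHom ((ε R).app (uR φ, P)) (𝟙 (Q.obj P'))) ≫
        (ε R).app (uR φ ⊗ P, P') ≫
        Q.map ((pfL φ P ▷ P') ≫ ((resCx φ).obj ((extCx φ).obj P) ◁ ηc φ P') ≫
          resTenCx φ ((extCx φ).obj P) ((extCx φ).obj P')) := by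
  have h1 := projPF_naturality_left φ (Q.obj P') ((baseCmp φ).app P)
  have h2 := projPF_Q φ ((extCx φ).obj P) P'
  have h3 := sig_Q φ P
  have h4 : (LTen₂ R).map (Prod.mkHom (Q.map (pfL φ P)) (𝟙 (Q.obj P'))) ≫
      (ε R).app ((resCx φ).obj ((extCx φ).obj P), P') =
      (ε R).app (uR φ ⊗ P, P') ≫ Q.map (pfL φ P ▷ P') := by
    have h4' := ε_nat' (pfL φ P) (𝟙 P')
    rw [MonoidalCategory.tensorHom_id, CategoryTheory.Functor.map_id] at h4'
    exact h4'
  have hsplit : (LTen₂ R').map (Prod.mkHom ((baseCmp φ).app P) ((baseCmp φ).app P')) =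
      (LTen₂ R').map (Prod.mkHom ((baseCmp φ).app P) (𝟙 ((LBase φ).obj (Q.obj P')))) ≫
        (LTen₂ R').map (Prod.mkHom (𝟙 (Q.obj ((extCx φ).obj P))) ((baseCmp φ).app P')) := by
    rw [LT_comp]
    congr 2
    · exact (Category.comp_id _).symm
    · exact (Category.id_comp _).symm
  have key : (LTen₂ R).map (Prod.mkHom (sig φ (Q.obj P)) (𝟙 (Q.obj P'))) ≫
      (LTen₂ R).map (Prod.mkHom ((DRing.restrictD φ).map ((baseCmp φ).app P)) (𝟙 (Q.obj P'))) ≫
      (LTen₂ R).map (Prod.mkHom ((resFactors φ).hom.app ((extCx φ).obj P)) (𝟙 (Q.obj P'))) =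
      (LTen₂ R).map (Prod.mkHom ((LTen₂ R).map (Prod.mkHom
          ((resFactors φ).hom.app (𝟙_ (DRing.Cx R'))) (𝟙 (Q.obj P)))) (𝟙 (Q.obj P'))) ≫
        (LTen₂ R).map (Prod.mkHom ((ε R).app (uR φ, P)) (𝟙 (Q.obj P'))) ≫
        (LTen₂ R).map (Prod.mkHom (Q.map (pfL φ P)) (𝟙 (Q.obj P'))) := by
    rw [← LT_comp_left, ← LT_comp_left, ← LT_comp_left, ← LT_comp_left, h3]
  dsimp only [tailT]
  rw [hsplit, Category.assoc, Functor.map_comp, Category.assoc, ← reassoc_of% h1, h2,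
    reassoc_of% key]
  simp only [Functor.map_comp, Category.assoc]
  rw [reassoc_of% h4]

theorem sig_proj_right (P P' : DRing.Cx R) :
    (DTen.associator (aD φ) (Q.obj P) (Q.obj P')).hom ≫
        sig φ ((LTen₂ R).obj (Q.obj P, Q.obj P')) ≫
        (DRing.restrictD φ).map (mu φ (Q.obj P) (Q.obj P')) ≫ tailT φ P P' =
      (LTen₂ R).map (Prod.mkHom ((LTen₂ R).map (Prod.mkHom
          ((resFactors φ).hom.app (𝟙_ (DRing.Cx R'))) (𝟙 (Q.obj P)))) (𝟙 (Q.obj P'))) ≫
        (LTen₂ R).map (Prod.mkHom ((ε R).app (uR φ, P)) (𝟙 (Q.obj P'))) ≫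
        (ε R).app (uR φ ⊗ P, P') ≫
        Q.map ((α_ (uR φ) P P').hom ≫ pfL φ (P ⊗ P') ≫
          (resCx φ).map (extTenCxIso φ P P').hom) := by
  have h1 := mu_Q φ P P'
  have h2 : (LTen₂ R).map (Prod.mkHom (𝟙 (aD φ)) ((ε R).app (P, P'))) ≫ sig φ (Q.obj (P ⊗ P')) =
      sig φ ((LTen₂ R).obj (Q.obj P, Q.obj P')) ≫
        (DRing.restrictD φ).map ((LBase φ).map ((ε R).app (P, P'))) :=
    sig_naturality φ ((ε R).app (P, P'))
  have h3 : (DRing.restrictD φ).map (Q.map (extTenCxIso φ P P').hom) ≫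
      (resFactors φ).hom.app ((extCx φ).obj P ⊗ (extCx φ).obj P') =
      (resFactors φ).hom.app ((extCx φ).obj (P ⊗ P')) ≫
        Q.map ((resCx φ).map (extTenCxIso φ P P').hom) :=
    (resFactors φ).hom.naturality (extTenCxIso φ P P').hom
  have h4 := sig_Q φ (P ⊗ P')
  have h5 : (LTen₂ R).map (Prod.mkHom ((LTen₂ R).map (Prod.mkHom
        ((resFactors φ).hom.app (𝟙_ (DRing.Cx R'))) (𝟙 (Q.obj P)))) (𝟙 (Q.obj P'))) ≫
      (DTen.associator (Q.obj (uR φ)) (Q.obj P) (Q.obj P')).hom =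
      (DTen.associator (aD φ) (Q.obj P) (Q.obj P')).hom ≫
        (LTen₂ R).map (Prod.mkHom ((resFactors φ).hom.app (𝟙_ (DRing.Cx R')))
          ((LTen₂ R).map (Prod.mkHom (𝟙 (Q.obj P)) (𝟙 (Q.obj P'))))) :=
    DTenLib.associator_naturality ((resFactors φ).hom.app (𝟙_ (DRing.Cx R')))
      (𝟙 (Q.obj P)) (𝟙 (Q.obj P'))
  have h6 := associator_β (uR φ) P P'
  have hc : (LTen₂ R).map (Prod.mkHom (𝟙 (aD φ)) ((ε R).app (P, P'))) ≫
      (LTen₂ R).map (Prod.mkHom ((resFactors φ).hom.app (𝟙_ (DRing.Cx R')))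
        (𝟙 (Q.obj (P ⊗ P')))) =
      (LTen₂ R).map (Prod.mkHom ((resFactors φ).hom.app (𝟙_ (DRing.Cx R')))
        ((LTen₂ R).map (Prod.mkHom (𝟙 (Q.obj P)) (𝟙 (Q.obj P'))))) ≫
      (LTen₂ R).map (Prod.mkHom (𝟙 (Q.obj (uR φ))) ((ε R).app (P, P'))) := by
    rw [LT_comp, LT_comp, LT_id]
    congr 2
    · exact (Category.id_comp _).trans (Category.comp_id _).symm
    · exact (Category.comp_id _).trans (Category.id_comp _).symm
  dsimp only [tailT]
  rw [← Functor.map_comp_assoc (DRing.restrictD φ), h1, Functor.map_comp, Functor.map_comp,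
    Category.assoc, Category.assoc, h3, ← reassoc_of% h2, reassoc_of% h4, reassoc_of% hc,
    ← reassoc_of% h5, reassoc_of% h6, ← Functor.map_comp, ← Functor.map_comp]

theorem sig_proj_Q (P P' : DRing.Cx R) [P.IsKProjective] [P'.IsKProjective] :
    (LTen₂ R).map (Prod.mkHom (sig φ (Q.obj P)) (𝟙 (Q.obj P'))) ≫
        projPF φ ((LBase φ).obj (Q.obj P)) (Q.obj P') =
      (DTen.associator (aD φ) (Q.obj P) (Q.obj P')).hom ≫
        sig φ ((LTen₂ R).obj (Q.obj P, Q.obj P')) ≫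
        (DRing.restrictD φ).map (mu φ (Q.obj P) (Q.obj P')) := by
  rw [← cancel_mono (tailT φ P P')]
  simp only [Category.assoc]
  rw [sig_proj_left, sig_proj_right, pfL_tensor]

/-- **the coherence**: `σ` intertwines the projection formula map and the monoidal structure of
derived base change -/
theorem sig_proj (X K : Dual.D R) :
    (LTen₂ R).map (Prod.mkHom (sig φ X) (𝟙 K)) ≫ projPF φ ((LBase φ).obj X) K =
      (DTen.associator (aD φ) X K).hom ≫ sig φ ((LTen₂ R).obj (X, K)) ≫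
        (DRing.restrictD φ).map (mu φ X K) := by
  let w := Q.objPreimage X
  let k := Q.objPreimage K
  let eX : Q.obj (res w) ≅ X := asIso (Q.map (resMap w)) ≪≫ Q.objObjPreimageIso X
  let eK : Q.obj (res k) ≅ K := asIso (Q.map (resMap k)) ≪≫ Q.objObjPreimageIso K
  have hQ := sig_proj_Q φ (res w) (res k)
  have n1 : (LTen₂ R).map (Prod.mkHom ((LTen₂ R).map (Prod.mkHom (𝟙 (aD φ)) eX.hom)) eK.hom) ≫
      (LTen₂ R).map (Prod.mkHom (sig φ X) (𝟙 K)) =
      (LTen₂ R).map (Prod.mkHom (sig φ (Q.obj (res w))) (𝟙 (Q.obj (res k)))) ≫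
        (LTen₂ R).map (Prod.mkHom ((DRing.restrictD φ).map ((LBase φ).map eX.hom)) eK.hom) := by
    rw [LT_comp, LT_comp, sig_naturality]
    congr 2
    exact (Category.comp_id _).trans (Category.id_comp _).symm
  have n2 := projPF_naturality φ ((LBase φ).map eX.hom) eK.hom
  have n3 := DTenLib.associator_naturality (𝟙 (aD φ)) eX.hom eK.hom
  have n4 := sig_naturality φ ((LTen₂ R).map (Prod.mkHom eX.hom eK.hom))
  have n5 := mu_naturality φ eX.hom eK.hom
  haveI : IsIso ((LTen₂ R).map (Prod.mkHom ((LTen₂ R).map (Prod.mkHom (𝟙 (aD φ)) eX.hom))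
      eK.hom)) := inferInstance
  rw [← cancel_epi ((LTen₂ R).map (Prod.mkHom ((LTen₂ R).map (Prod.mkHom (𝟙 (aD φ)) eX.hom))
      eK.hom))]
  have n5' : (DRing.restrictD φ).map ((LBase φ).map ((LTen₂ R).map (Prod.mkHom eX.hom eK.hom))) ≫
      (DRing.restrictD φ).map (mu φ X K) =
      (DRing.restrictD φ).map (mu φ (Q.obj (res w)) (Q.obj (res k))) ≫
        (DRing.restrictD φ).map
          ((LTen₂ R').map (Prod.mkHom ((LBase φ).map eX.hom) ((LBase φ).map eK.hom))) := by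
    rw [← Functor.map_comp, n5, Functor.map_comp]
  rw [reassoc_of% n1, n2, reassoc_of% hQ, reassoc_of% n3, reassoc_of% n4, n5']

end Coh

section RHom

variable [HasRHom R] [HasRHom R']

theorem rhomHomEquiv_symm_apply {W K N : Dual.D R} (g : W ⟶ (RHomR R K).obj N) :
    (rhomHomEquiv W K N).symm g = (LTen₂ R).map (Prod.mkHom g (𝟙 K)) ≫ DTen.ev K N := by
  dsimp only [rhomHomEquiv]
  rw [Adjunction.homEquiv_counit]
  rfl

theorem ev_naturality (K : Dual.D R) {N N' : Dual.D R} (f : N ⟶ N') :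
    (LTen₂ R).map (Prod.mkHom ((RHomR R K).map f) (𝟙 K)) ≫ DTen.ev K N' = DTen.ev K N ≫ f :=
  (rhomAdj R K).counit.naturality f

/-- the adjunct of `bcRHom` -/
theorem mu_bcRHom (K M : Dual.D R) [IsIso (rhomBC φ K ((LBase φ).obj M))] :
    mu φ ((RHomR R K).obj M) K ≫
        ((LTen₂ R').map (Prod.mkHom (bcRHom φ K M) (𝟙 ((LBase φ).obj K))) ≫
          DTen.ev ((LBase φ).obj K) ((LBase φ).obj M)) =
      (LBase φ).map (DTen.ev K M) := by
  apply ((baseAdj φ).homEquiv _ _).injective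
  rw [Adjunction.homEquiv_unit, Adjunction.homEquiv_unit, unit_mu_comp]
  obtain ⟨f, hf⟩ : ∃ f : (RHomR R K).obj M ⟶
      (DRing.restrictD φ).obj ((RHomR R' ((LBase φ).obj K)).obj ((LBase φ).obj M)),
      f = (baseAdj φ).unit.app ((RHomR R K).obj M) ≫ (DRing.restrictD φ).map (bcRHom φ K M) :=
    ⟨_, rfl⟩
  have h1 := rhomBC_formula φ K ((LBase φ).obj M) f
  have h2 : ((baseAdj φ).homEquiv ((RHomR R K).obj M)
      ((RHomR R' ((LBase φ).obj K)).obj ((LBase φ).obj M))).symm f = bcRHom φ K M := by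
    rw [Equiv.symm_apply_eq, hf]
    exact ((baseAdj φ).homEquiv_unit ..).symm
  rw [h2] at h1
  rw [← h1, rhomHomEquiv_symm_apply]
  have h3 := bcRHom_fac φ K M
  have h4 : f ≫ rhomBC φ K ((LBase φ).obj M) =
      (RHomR R K).map ((baseAdj φ).unit.app M) := by
    rw [hf, h3, Category.assoc, IsIso.inv_hom_id]
    exact Category.comp_id _
  rw [h4, ev_naturality]
  have h5 : DTen.ev K M ≫ (baseAdj φ).unit.app M =
      (baseAdj φ).unit.app ((LTen₂ R).obj ((RHomR R K).obj M, K)) ≫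
        (DRing.restrictD φ).map ((LBase φ).map (DTen.ev K M)) :=
    (baseAdj φ).unit.naturality (DTen.ev K M)
  exact h5

variable [HasLTen₃ R] [IsSymMonoidal R]

/-- **the link** between `bcRHom` and `evalTen` -/
theorem link_bcRHom (K M : Dual.D R) [IsIso (rhomBC φ K ((LBase φ).obj M))] :
    sig φ ((RHomR R K).obj M) ≫ (DRing.restrictD φ).map (bcRHom φ K M) ≫
        rhomBC φ K ((LBase φ).obj M) =
      evalTen (aD φ) M K ≫ (RHomR R K).map (sig φ M) := by
  apply (rhomHomEquiv _ K _).symm.injective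
  rw [rhomHomEquiv_symm_apply, rhomHomEquiv_symm_apply]
  have hf : (LTen₂ R).map (Prod.mkHom (rhomBC φ K ((LBase φ).obj M)) (𝟙 K)) ≫
      DTen.ev K ((DRing.restrictD φ).obj ((LBase φ).obj M)) =
      rhomBCCore φ K ((LBase φ).obj M) := rhomBC_fac φ K ((LBase φ).obj M)
  have h1 := projPF_naturality_left φ K (bcRHom φ K M)
  have h2 := sig_proj φ ((RHomR R K).obj M) K
  have h3 := mu_bcRHom φ K M
  have h4 := sig_naturality φ (DTen.ev K M)
  have h5 := ev_naturality K (sig φ M)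
  have h6 := evalTen_fac (aD φ) M K
  have L1 : (LTen₂ R).map (Prod.mkHom (sig φ ((RHomR R K).obj M) ≫
        (DRing.restrictD φ).map (bcRHom φ K M) ≫ rhomBC φ K ((LBase φ).obj M)) (𝟙 K)) ≫
      DTen.ev K ((DRing.restrictD φ).obj ((LBase φ).obj M)) =
      (DTen.associator (aD φ) ((RHomR R K).obj M) K).hom ≫
        (LTen₂ R).map (Prod.mkHom (𝟙 (aD φ)) (DTen.ev K M)) ≫ sig φ M := by
    rw [LT_comp_left, LT_comp_left, Category.assoc, Category.assoc, hf, rhomBCCore_eq,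
      reassoc_of% h1, reassoc_of% h2, ← Functor.map_comp, ← Functor.map_comp, h3, ← h4]
  have L2 : (LTen₂ R).map (Prod.mkHom (evalTen (aD φ) M K ≫ (RHomR R K).map (sig φ M))
        (𝟙 K)) ≫ DTen.ev K ((DRing.restrictD φ).obj ((LBase φ).obj M)) =
      (DTen.associator (aD φ) ((RHomR R K).obj M) K).hom ≫
        (LTen₂ R).map (Prod.mkHom (𝟙 (aD φ)) (DTen.ev K M)) ≫ sig φ M := by
    rw [LT_comp_left, Category.assoc, h5, reassoc_of% h6]
    dsimp only [evalTenAux]
    rw [Category.assoc]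
  exact L1.trans L2.symm

theorem isIso_bcRHom_of_isIso_evalTen (K M : Dual.D R)
    [IsIso (rhomBC φ K ((LBase φ).obj M))] (h : IsIso (evalTen (aD φ) M K)) :
    IsIso (bcRHom φ K M) := by
  have e := link_bcRHom φ K M
  haveI : IsIso (sig φ ((RHomR R K).obj M) ≫ (DRing.restrictD φ).map (bcRHom φ K M) ≫
      rhomBC φ K ((LBase φ).obj M)) := by
    rw [e]
    infer_instance
  haveI : IsIso ((DRing.restrictD φ).map (bcRHom φ K M) ≫ rhomBC φ K ((LBase φ).obj M)) :=
    IsIso.of_isIso_comp_left (sig φ ((RHomR R K).obj M)) _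
  have h2 : IsIso ((DRing.restrictD φ).map (bcRHom φ K M)) :=
    IsIso.of_isIso_comp_right _ (rhomBC φ K ((LBase φ).obj M))
  exact isIso_of_isIso_restrictD_map φ _ h2

end RHom

end Groth.Agent.Lib.Helper5.RBC
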